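import Cfsg.Agent.H442.S5.SzB
import Cfsg.Agent.H132.S5.Main

/-!
# The strong row of `Sz(32)`, `p = 5`: outer against outer, and the assembly (helper442)

* `srow_sz_all` : `SRow p (Sz(q))`, `p` odd;
* `srow_ree` (in `SzA`) : `SRow p (²G₂(q))`, `p ≥ 5`.
-/

set_option autoImplicit false
set_option linter.unusedSectionVars false

universe u

namespace Cfsg.Agent.H442.S5

open Cfsg Cfsg.Agent.H533.T5 Cfsg.Agent.H106.MT Cfsg.Agent.H106.MB Cfsg.Agent.H132.S5 Cfsg.Agent.H28.T5RankOne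
open Cfsg.Agent.H957.T5M
open Cfsg.Agent.LieRecognition.SzMatrix Cfsg.Agent.H967.CopMat Cfsg.Agent.H967.CopSz Cfsg.Agent.H28.T5Sz32

section

variable {F : Type} [Field F] [Fintype F] (hF : Fintype.card F = 2 ^ (2 * 2 + 1))

theorem u_comm (a b c d : F) : (good hF).u a b * (good hF).u c d =
    (good hF).u 0 (a * theta hF c + c * theta hF a) * ((good hF).u c d * (good hF).u a b) := by
  have h2 : (2 : F) = 0 := (good hF).two
  rw [(good hF).u_mul, (good hF).u_mul, (good hF).u_mul]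
  congr 1
  · ring
  · linear_combination (-(c * theta hF a)) * h2

/-- **Part (b), outer against outer, for the field automorphisms.** -/
theorem bpair_field {σ : F ≃+* F} (hσ : orderOf σ = 5) {m : ℕ} (hm : m.Coprime 5) :
    BPair 5 (MulAut.conj : ↥(Cfsg.Lie.Sz F (2 ^ (2 + 1))) →* _).range (fieldAut (stab_sz hF) σ)
      (fieldAut (stab_sz hF) σ ^ m) := by
  have h5p : Fact (Nat.Prime 5) := ⟨Nat.prime_five⟩
  have hcyc : IsCyclic (F ≃+* F) := LieRecognition.FieldSemilinear.isCyclic_ringAut F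
  have hfinR := finite_ringAut F
  have h2 : (2 : F) = 0 := (good hF).two
  have hs : IsSimpleGroup ↥(Cfsg.Lie.Sz F (2 ^ (2 + 1))) := Cfsg.Agent.S1162.result (by norm_num) hF
  have hinj := conj_injective_of_simple (S := ↥(Cfsg.Lie.Sz F (2 ^ (2 + 1)))) (sz_na (by norm_num) hF)
  obtain ⟨α, hα⟩ := exists_root (F := F) hF h2
  obtain ⟨φ, hφ5, hφ⟩ := exists_frob hF hα
  -- the subgroup `V`
  obtain ⟨V, hV⟩ : ∃ V : Subgroup (MulAut ↥(Cfsg.Lie.Sz F (2 ^ (2 + 1)))),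
      V = ((good hF).unip).map (MulAut.conj : ↥(Cfsg.Lie.Sz F (2 ^ (2 + 1))) →* _) := ⟨_, rfl⟩
  have hmemV : ∀ a b, MulAut.conj ((good hF).u a b) ∈ V := fun a b => by
    rw [hV]; exact Subgroup.mem_map_of_mem _ ((good hF).u_mem_unip a b)
  have hVmem : ∀ v ∈ V, ∃ a b, v = MulAut.conj ((good hF).u a b) := by
    intro v hv
    rw [hV] at hv
    obtain ⟨x, hx, rfl⟩ := hv
    obtain ⟨a, b, rfl⟩ := ((good hF).mem_unip_iff x).1 hx
    exact ⟨a, b, rfl⟩
  have hVc : Nat.card V = (2 ^ (2 * 2 + 1)) ^ 2 := by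
    rw [hV, Subgroup.card_map_of_injective hinj, (good hF).card_unip, Nat.card_eq_fintype_card, hF]
  -- the action of the field automorphisms
  have hact : ∀ (τ : F ≃+* F) (a b : F), fieldAut (stab_sz hF) τ * MulAut.conj ((good hF).u a b) *
      (fieldAut (stab_sz hF) τ)⁻¹ = MulAut.conj ((good hF).u (τ a) (τ b)) := by
    intro τ a b
    rw [← fieldAut_u]
    refine MulEquiv.ext fun y => ?_
    rw [MulAut.mul_apply, MulAut.mul_apply, MulAut.conj_apply, MulAut.conj_apply, map_mul, map_mul, map_inv,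
      MulAut.apply_inv_self]
  -- the normalizer
  obtain ⟨M, hM⟩ : ∃ M : Subgroup (MulAut ↥(Cfsg.Lie.Sz F (2 ^ (2 + 1)))),
      M = Subgroup.normalizer (V : Set (MulAut ↥(Cfsg.Lie.Sz F (2 ^ (2 + 1))))) := ⟨_, rfl⟩
  have hVM : V ≤ M := by rw [hM]; exact Subgroup.le_normalizer
  have hnorm : (V.subgroupOf M).Normal := by rw [hM]; exact Subgroup.normal_in_normalizer
  have hfM : ∀ τ : F ≃+* F, fieldAut (stab_sz hF) τ ∈ M := by
    intro τ
    rw [hM, Subgroup.mem_normalizer_iff]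
    intro v
    constructor
    · intro hv
      obtain ⟨a, b, rfl⟩ := hVmem v hv
      rw [hact]
      exact hmemV _ _
    · intro hv
      obtain ⟨a, b, hab⟩ := hVmem _ hv
      have h3 : v = fieldAut (stab_sz hF) τ⁻¹ * MulAut.conj ((good hF).u a b) * (fieldAut (stab_sz hF) τ⁻¹)⁻¹ := by
        rw [← hab, map_inv]; group
      rw [h3, hact]
      exact hmemV _ _
  obtain ⟨c, hc⟩ : ∃ c : M, c = ⟨fieldAut (stab_sz hF) σ, hfM σ⟩ := ⟨_, rfl⟩
  have hcc : (c : MulAut ↥(Cfsg.Lie.Sz F (2 ^ (2 + 1)))) = fieldAut (stab_sz hF) σ := by rw [hc]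
  -- `φ⁻¹` is a power of `σ`
  obtain ⟨j, hj⟩ : ∃ j : ℕ, σ ^ j = φ⁻¹ := by
    have h3 : orderOf φ⁻¹ = 5 := by rw [orderOf_inv, hφ5]
    obtain ⟨k, hk⟩ := Subgroup.mem_zpowers_iff.1 (mem_zpowers_of_cyclic Nat.prime_five h3 hσ)
    obtain ⟨n, hn⟩ := exists_nat_pow (by norm_num : 0 < 5) (a := σ) (by rw [← hσ, pow_orderOf_eq_one]) k
    exact ⟨n, by rw [← hn, hk]⟩
  have hcj : ((c ^ j : M) : MulAut ↥(Cfsg.Lie.Sz F (2 ^ (2 + 1)))) = (fieldAut (stab_sz hF) φ)⁻¹ := by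
    rw [Subgroup.coe_pow, hcc, ← map_pow, hj, map_inv]
  obtain ⟨CL, hCLdef⟩ : ∃ CL : Subgroup M, CL = Subgroup.closure {y : M | ∃ v ∈ V.subgroupOf M, y = c⁻¹ * v * c * v⁻¹} :=
    ⟨_, rfl⟩
  obtain ⟨L, hL⟩ : ∃ L : Subgroup (MulAut ↥(Cfsg.Lie.Sz F (2 ^ (2 + 1)))), L = CL.map M.subtype := ⟨_, rfl⟩
  have hCL : ∀ a b : F, MulAut.conj ((good hF).u (a ^ 2) (b ^ 2) * ((good hF).u a b)⁻¹) ∈ L := by
    intro a b
    have h3 := mem_closure_pow (V.subgroupOf M) c j (v := ⟨MulAut.conj ((good hF).u a b), hVM (hmemV a b)⟩)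
      (hmemV a b)
    rw [← hCLdef] at h3
    rw [hL]
    refine ⟨_, h3, ?_⟩
    rw [Subgroup.coe_subtype, Subgroup.coe_mul, Subgroup.coe_mul, Subgroup.coe_mul, Subgroup.coe_inv,
      Subgroup.coe_inv, hcj, inv_inv]
    show fieldAut (stab_sz hF) φ * MulAut.conj ((good hF).u a b) * (fieldAut (stab_sz hF) φ)⁻¹ *
      (MulAut.conj ((good hF).u a b))⁻¹ = _
    rw [hact, hφ, hφ, map_mul, map_inv]
  have hθ : theta hF α = α ^ 3 + α ^ 2 + 1 := by
    rw [theta_apply]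
    linear_combination (α ^ 3 + 1) * hα
  have hr4 : (α ^ 3 + α ^ 2 + 1) ^ 4 = α := by
    linear_combination (35 + 23 * α + 19 * α ^ 2 + 17 * α ^ 3 + 9 * α ^ 4 + 6 * α ^ 5 + 4 * α ^ 6 + α ^ 7) * hα +
      (18 + 11 * α + 29 * α ^ 2 + 22 * α ^ 3 + 17 * α ^ 4) * h2
  -- the involution
  have hz : MulAut.conj ((good hF).u 0 1) ∈ L := by
    obtain ⟨β₁, hβ₁⟩ : ∃ β, (good hF).u (α ^ 2) ((0 : F) ^ 2) * ((good hF).u α 0)⁻¹ = (good hF).u (α ^ 2 + α) β := by
      rw [(good hF).u_inv, (good hF).u_mul]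
      exact ⟨_, rfl⟩
    obtain ⟨β₂, hβ₂⟩ : ∃ β, (good hF).u ((α ^ 4) ^ 2) ((0 : F) ^ 2) * ((good hF).u (α ^ 4) 0)⁻¹ =
        (good hF).u ((α ^ 4) ^ 2 + α ^ 4) β := by
      rw [(good hF).u_inv, (good hF).u_mul]
      exact ⟨_, rfl⟩
    have h3 := hCL α 0
    have h4 := hCL (α ^ 4) 0
    have h5 := hCL 0 (α ^ 2 + α)
    rw [hβ₁] at h3
    rw [hβ₂] at h4
    have h6 : (good hF).u ((0 : F) ^ 2) ((α ^ 2 + α) ^ 2) * ((good hF).u 0 (α ^ 2 + α))⁻¹ =
        (good hF).u 0 ((α ^ 2 + α) ^ 2 + (α ^ 2 + α)) := by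
      rw [(good hF).u_inv, (good hF).u_mul, map_zero]
      congr 1
      · ring
      · ring
    rw [h6] at h5
    have h7 := u_comm hF (α ^ 2 + α) β₁ ((α ^ 4) ^ 2 + α ^ 4) β₂
    have h8 : MulAut.conj ((good hF).u 0 ((α ^ 2 + α) * theta hF ((α ^ 4) ^ 2 + α ^ 4) +
        ((α ^ 4) ^ 2 + α ^ 4) * theta hF (α ^ 2 + α))) ∈ L := by
      have h9 : (good hF).u 0 ((α ^ 2 + α) * theta hF ((α ^ 4) ^ 2 + α ^ 4) +
          ((α ^ 4) ^ 2 + α ^ 4) * theta hF (α ^ 2 + α)) = (good hF).u (α ^ 2 + α) β₁ *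
            (good hF).u ((α ^ 4) ^ 2 + α ^ 4) β₂ * ((good hF).u ((α ^ 4) ^ 2 + α ^ 4) β₂ *
            (good hF).u (α ^ 2 + α) β₁)⁻¹ := by
        rw [h7, mul_inv_cancel_right]
      rw [h9, map_mul, map_inv, map_mul, map_mul]
      exact mul_mem (mul_mem h3 h4) (inv_mem (mul_mem h4 h3))
    have h9 := mul_mem h8 h5
    rw [← map_mul, (good hF).u_mul] at h9
    have h10 : (good hF).u (0 + 0 : F) ((α ^ 2 + α) * theta hF ((α ^ 4) ^ 2 + α ^ 4) +
        ((α ^ 4) ^ 2 + α ^ 4) * theta hF (α ^ 2 + α) + ((α ^ 2 + α) ^ 2 + (α ^ 2 + α)) + 0 * theta hF 0) =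
        (good hF).u 0 1 := by
      congr 1
      · ring
      · simp only [map_add, map_pow, hθ, hr4]
        linear_combination (15 + 11 * α + 10 * α ^ 2 + 9 * α ^ 3 + 4 * α ^ 4 + 6 * α ^ 5 + 4 * α ^ 6 + α ^ 7 +
          2 * α ^ 8 + α ^ 9) * hα + (7 + 6 * α + 14 * α ^ 2 + 12 * α ^ 3 + 9 * α ^ 4) * h2
    rw [h10] at h9
    exact h9
  rw [hL] at hz
  obtain ⟨z, hzCL, hzc⟩ := hz
  rw [Subgroup.coe_subtype] at hzc
  rw [hCLdef] at hzCL
  have key := bpair_of_coprime (p := 5) (V.subgroupOf M) (by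
      rw [Nat.card_congr (Subgroup.subgroupOfEquivOfLe hVM).toEquiv, hVc]
      norm_num) (c := c) (by
      rw [← Subgroup.orderOf_coe, hcc]
      refine orderOf_eq_prime (by rw [← map_pow, ← hσ, pow_orderOf_eq_one, map_one]) fun h3 => ?_
      have h4 : σ = 1 := by
        ext a
        have h5 := fieldAut_u hF σ a 0
        rw [h3, MulAut.one_apply] at h5
        exact ((good hF).u_inj h5).1.symm
      rw [h4, orderOf_one] at hσ
      omega) hm (z := z) (by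
      show (z : MulAut ↥(Cfsg.Lie.Sz F (2 ^ (2 + 1)))) ∈ V
      rw [hzc]; exact hmemV _ _) (by
      rintro rfl
      rw [Subgroup.coe_one] at hzc
      have h3 : (good hF).u 0 1 = 1 := hinj (by rw [← hzc, map_one])
      rw [← (good hF).u_zero] at h3
      exact one_ne_zero ((good hF).u_inj h3).2) (by
      have h3 := hact σ 0 1
      rw [map_zero, map_one] at h3
      apply Subtype.ext
      rw [Subgroup.coe_mul, Subgroup.coe_mul, hzc, hcc]
      rw [← eq_mul_inv_iff_mul_eq]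
      exact h3.symm) hzCL
  have h3 := (BPair.of_subgroup (M := M) (S := V) key)
  rw [Subgroup.coe_pow, hcc] at h3
  refine h3.mono ?_
  rw [hV]
  rintro _ ⟨x, -, rfl⟩
  exact ⟨x, rfl⟩

include hF in
/-- **The strong row of `Sz(32)`, `p = 5`.** -/
theorem srow_sz32 (hAA : AAHyp.{0} 5) (hRS : RSHyp.{0} 5) : SRow 5 ↥(Cfsg.Lie.Sz F (2 ^ (2 + 1))) := by
  have h5p : Fact (Nat.Prime 5) := ⟨Nat.prime_five⟩
  have hcyc : IsCyclic (F ≃+* F) := LieRecognition.FieldSemilinear.isCyclic_ringAut F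
  have hfinR := finite_ringAut F
  have hs : IsSimpleGroup ↥(Cfsg.Lie.Sz F (2 ^ (2 + 1))) := Cfsg.Agent.S1162.result (by norm_num) hF
  have hna := sz_na (m := 2) (by norm_num) hF
  have hinj := conj_injective_of_simple (S := ↥(Cfsg.Lie.Sz F (2 ^ (2 + 1)))) hna
  have hI := conj_range_normal (S := ↥(Cfsg.Lie.Sz F (2 ^ (2 + 1))))
  obtain ⟨P⟩ : Nonempty (Sylow 5 ↥(Cfsg.Lie.Sz F (2 ^ (2 + 1)))) := inferInstance
  have io : ∀ {x : ↥(Cfsg.Lie.Sz F (2 ^ (2 + 1)))} {d : MulAut ↥(Cfsg.Lie.Sz F (2 ^ (2 + 1)))}, orderOf x = 5 →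
      orderOf d = 5 → (¬ ∃ g, d = MulAut.conj g) →
      SPair 5 (MulAut.conj : ↥(Cfsg.Lie.Sz F (2 ^ (2 + 1))) →* _).range (MulAut.conj x) d :=
    fun hx hd hdo => SPair.mk' Nat.prime_five (apair_io hF hx hd) (bpair_io hF hx hd hdo)
  intro c d hc hd
  by_cases hci : ∃ g, c = MulAut.conj g
  · obtain ⟨x, rfl⟩ := hci
    by_cases hdi : ∃ g, d = MulAut.conj g
    · obtain ⟨y, rfl⟩ := hdi
      rw [orderOf_injective _ hinj] at hc hd
      have := (spair_of_cyclic hAA hRS hna P (sz_cyc (by norm_num) hF (by norm_num) P) hc hd).of_injective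
        (MulAut.conj : ↥(Cfsg.Lie.Sz F (2 ^ (2 + 1))) →* _) hinj
      rwa [← MonoidHom.range_eq_map] at this
    · rw [orderOf_injective _ hinj] at hc
      exact io hc hd hdi
  · by_cases hdi : ∃ g, d = MulAut.conj g
    · obtain ⟨y, rfl⟩ := hdi
      rw [orderOf_injective _ hinj] at hd
      exact (io hd hc hci).symm
    · have hdata := sz_data (m := 2) (by norm_num) hF (p := 5) (by norm_num)
      refine SPair.mk' Nat.prime_five ?_ ?_
      · obtain ⟨s, hs', j, h⟩ := hdata.conj hc hd hci hdi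
        refine APair.of_aligned (R := (MulAut.conj : ↥(Cfsg.Lie.Sz F (2 ^ (2 + 1))) →* _).range) hRS le_rfl hc
          (fun r hr => hI.conj_mem _ hr c) hs' j (h := 1) (Commute.one_right _) (fun r _ => Commute.one_right _)
          (by rw [h, mul_one]) (not_solvable_inn hna ?_)
        rintro rfl
        rw [orderOf_one] at hc
        omega
      · obtain ⟨σ, hσ, g, rfl⟩ := hdata.form hc hci
        obtain ⟨τ, hτ, g', rfl⟩ := hdata.form hd hdi
        refine BPair.conj_left (s := MulAut.conj g⁻¹) ⟨g⁻¹, rfl⟩ (BPair.conj_right (s := MulAut.conj g'⁻¹) ⟨g'⁻¹, rfl⟩ ?_)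
        have e1 : ∀ (g : ↥(Cfsg.Lie.Sz F (2 ^ (2 + 1)))) (σ : F ≃+* F),
            MulAut.conj g⁻¹ * (MulAut.conj g * fieldAut (stab_sz hF) σ * (MulAut.conj g)⁻¹) * (MulAut.conj g⁻¹)⁻¹ =
              fieldAut (stab_sz hF) σ := by
          intro g σ
          rw [map_inv]
          group
        rw [e1, e1]
        obtain ⟨k, hk⟩ := Subgroup.mem_zpowers_iff.1 (mem_zpowers_of_cyclic Nat.prime_five hτ hσ)
        obtain ⟨n, hn⟩ := exists_nat_pow (by norm_num : 0 < 5) (a := σ) (by rw [← hσ, pow_orderOf_eq_one]) k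
        rw [← hk, hn, map_pow]
        refine bpair_field hF hσ ?_
        rw [Nat.coprime_comm, Nat.Prime.coprime_iff_not_dvd Nat.prime_five]
        rintro ⟨l, hl⟩
        rw [← hk, hn, hl, pow_mul, show σ ^ 5 = 1 by rw [← hσ, pow_orderOf_eq_one], one_pow, orderOf_one] at hτ
        omega

end

/-- the solvable Baer-Suzuki theorem in a smaller universe -/
theorem rshyp_down {p : ℕ} (h : RSHyp.{u} p) : RSHyp.{0} p := by
  intro K _ _ x hx hgx
  let e : ULift.{u} K ≃* K := MulEquiv.ulift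
  have hpair : ∀ a b : ULift.{u} K, Group.IsSolvable ↥(Subgroup.closure ({e a, e b} : Set K)) →
      Group.IsSolvable ↥(Subgroup.closure ({a, b} : Set (ULift.{u} K))) := by
    intro a b hab
    have hab' : Group.IsSolvable ↥((Subgroup.closure ({a, b} : Set (ULift.{u} K))).map (e : ULift.{u} K →* K)) := by
      rw [closure_pair_map (e : ULift.{u} K →* K) a b]
      exact hab
    exact Group.isSolvable_of_isSolvable_injective
      (f := ((Subgroup.closure ({a, b} : Set (ULift.{u} K))).equivMapOfInjective (e : ULift.{u} K →* K)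
        e.injective).toMonoidHom) (MulEquiv.injective _)
  have h1 := h (ULift.{u} K) (e.symm x) (by rw [MulEquiv.orderOf_eq, hx]) (fun g => by
    apply hpair
    have h2 := hgx (e g)
    rw [map_mul, map_mul, map_inv, e.apply_symm_apply]
    exact h2)
  have h2 : Subgroup.closure {y : K | ∃ g : K, y = g * x * g⁻¹} =
      (Subgroup.closure {y : ULift.{u} K | ∃ g : ULift.{u} K, y = g * e.symm x * g⁻¹}).map (e : ULift.{u} K →* K) := by
    rw [MonoidHom.map_closure]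
    congr 1
    ext y
    constructor
    · rintro ⟨g, rfl⟩
      refine ⟨e.symm g * e.symm x * (e.symm g)⁻¹, ⟨e.symm g, rfl⟩, ?_⟩
      show e (e.symm g * e.symm x * (e.symm g)⁻¹) = _
      rw [map_mul, map_mul, map_inv, e.apply_symm_apply, e.apply_symm_apply]
    · rintro ⟨_, ⟨g, rfl⟩, rfl⟩
      refine ⟨e g, ?_⟩
      show e (g * e.symm x * g⁻¹) = _
      rw [map_mul, map_mul, map_inv, e.apply_symm_apply]
  rw [h2]
  exact Group.isSolvable_of_surjective (f := (e : ULift.{u} K →* K).subgroupMap _)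
    ((e : ULift.{u} K →* K).subgroupMap_surjective _)

/-- **The strong row of `Sz(q)`, `p` odd.** -/
theorem srow_sz_all {S : Type u} [Group S] [Finite S] {F : Type} [Field F] [Fintype F] {m : ℕ} (hm : 1 ≤ m)
    (hF : Fintype.card F = 2 ^ (2 * m + 1)) {p : ℕ} (hpp : p.Prime) (hp2 : p ≠ 2)
    (e : S ≃* ↥(Cfsg.Lie.Sz F (2 ^ (m + 1)))) (B : SBox.{u} p) : SRow p S := by
  by_cases h5 : p = 5 ∧ m = 2
  · obtain ⟨rfl, rfl⟩ := h5
    exact H897.T5Sub.SRow.congr e.symm (srow_sz32 hF (aahyp_down B.aa) (rshyp_down B.rs))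
  · exact srow_sz hm hF hpp hp2 e B.aa B.rs h5

/-- **The strong row of `²G₂(q)`, `p ≥ 5`.** -/
theorem srow_ree_all {S : Type u} [Group S] [Finite S] {K : Type} [Field K] [Fintype K] {m : ℕ} (hm : 1 ≤ m)
    (hK : Fintype.card K = 3 ^ (2 * m + 1)) {p : ℕ} (hpp : p.Prime) (hp5 : 5 ≤ p)
    (e : S ≃* ↥(Cfsg.Lie.twistedG2 K (3 ^ m))) (B : SBox.{u} p) : SRow p S :=
  srow_ree hm hK hpp hp5 e B.aa B.rs

end Cfsg.Agent.H442.S5
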