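import Cfsg.Agent.H132.S5.Outer

/-!
# Two tools for the strong rows (helper442)

* `bpair_of_coprime` : part (b) for two powers `c`, `c ^ m` of an automorphism `c` of order `p` of a `p'`-group `V` with
  `[V, c] ∩ C_V(c) ≠ 1`;
* `exists_not_mem_zpowers` : not all conjugates of an automorphism of a simple group normalise `⟨x⟩`.
-/

set_option autoImplicit false

universe u

namespace Cfsg.Agent.H442.S5

open Cfsg.Agent.H533.T5 Cfsg.Agent.H132.S5

section cop

variable {A : Type*} [Group A] [Finite A] {p : ℕ} [hpf : Fact p.Prime]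

theorem bpair_of_coprime (V : Subgroup A) [hV : V.Normal] (hpV : ¬ p ∣ Nat.card V) {c : A} (hc : orderOf c = p) {m : ℕ}
    (hm : m.Coprime p) {z : A} (hz : z ∈ V) (hz1 : z ≠ 1) (hzc : Commute z c)
    (hzcl : z ∈ Subgroup.closure {y : A | ∃ v ∈ V, y = c⁻¹ * v * c * v⁻¹}) : BPair p V c (c ^ m) := by
  classical
  have hp : p.Prime := hpf.out
  have hcp : c ^ p = 1 := by rw [← hc, pow_orderOf_eq_one]
  by_contra hcon
  have hcon' : ∀ g ∈ V, ∃ k : ℕ, (c * (g * c ^ m * g⁻¹)) ^ p ^ k = 1 := by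
    intro g hg
    by_contra h
    push Not at h
    exact hcon ⟨g, hg, h⟩
  have htriv : ∀ y ∈ V, (∃ k : ℕ, y ^ p ^ k = 1) → y = 1 := by
    rintro y hy ⟨k, hk⟩
    have h1 : orderOf y ∣ p ^ k := orderOf_dvd_of_pow_eq_one hk
    have h2 : orderOf y ∣ Nat.card V := by
      have h3 : orderOf (⟨y, hy⟩ : ↥V) ∣ Nat.card V := orderOf_dvd_natCard _
      rwa [Subgroup.orderOf_mk] at h3
    have h3 : Nat.Coprime (p ^ k) (Nat.card V) := ((Nat.Prime.coprime_iff_not_dvd hp).2 hpV).pow_left k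
    exact orderOf_eq_one_iff.1 (Nat.dvd_one.1 (h3 ▸ Nat.dvd_gcd h1 h2))
  obtain ⟨D, hD⟩ : ∃ D : Set A, D = {y | ∃ v ∈ V, y = v * c ^ m * v⁻¹} := ⟨_, rfl⟩
  obtain ⟨E, hE⟩ : ∃ E : Set A, E = {y | ∃ v ∈ V, y = v * c ^ (m + 1) * v⁻¹} := ⟨_, rfl⟩
  -- `c D ⊆ E`
  have h1 : (fun y => c * y) '' D ⊆ E := by
    rintro _ ⟨y, hy, rfl⟩
    rw [hD] at hy
    obtain ⟨v, hv, rfl⟩ := hy
    rw [hE]
    obtain ⟨k, hk⟩ := hcon' v hv
    show ∃ w ∈ V, c * (v * c ^ m * v⁻¹) = w * c ^ (m + 1) * w⁻¹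
    obtain ⟨x, hx⟩ : ∃ x, x = c * (v * c ^ m * v⁻¹) := ⟨_, rfl⟩
    rw [← hx] at hk ⊢
    have hxV : x * (c ^ (m + 1))⁻¹ ∈ V := by
      have h2 : x * (c ^ (m + 1))⁻¹ = (c * v * c⁻¹) * (c ^ (m + 1) * v⁻¹ * (c ^ (m + 1))⁻¹) := by
        rw [hx, pow_succ']; group
      rw [h2]
      exact mul_mem (hV.conj_mem _ hv _) (hV.conj_mem _ (inv_mem hv) _)
    have hxp : x ^ p = 1 := by
      have h2 : x ^ p ∈ V := by
        have h3 : (QuotientGroup.mk' V) x = (QuotientGroup.mk' V) (c ^ (m + 1)) := by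
          rw [← mul_inv_eq_one, ← map_inv, ← map_mul, QuotientGroup.mk'_apply, QuotientGroup.eq_one_iff]
          exact hxV
        rw [← QuotientGroup.eq_one_iff, ← QuotientGroup.mk'_apply, map_pow, h3, ← map_pow, ← pow_mul, mul_comm, pow_mul,
          hcp, one_pow, map_one]
      refine htriv _ h2 ⟨k, ?_⟩
      rw [← pow_mul, mul_comm, pow_mul, hk, one_pow]
    by_cases hdiv : p ∣ m + 1
    · obtain ⟨l, hl⟩ := hdiv
      have h3 : c ^ (m + 1) = 1 := by rw [hl, pow_mul, hcp, one_pow]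
      refine ⟨1, one_mem _, ?_⟩
      rw [h3, inv_one, mul_one] at hxV
      rw [htriv x hxV ⟨k, hk⟩, h3]
      group
    · have h3 : orderOf (c ^ (m + 1)) = p := by
        rw [Nat.Coprime.orderOf_pow, hc]
        rw [hc]
        exact (Nat.Prime.coprime_iff_not_dvd hp).2 hdiv
      obtain ⟨i, hi, h4⟩ := conj_of_coprime V hpV hxp h3 hxV
      exact ⟨i, hi, h4⟩
  -- `|E| ≤ |D|`
  have h2 : E.ncard ≤ ((fun y => c * y) '' D).ncard := by
    rw [Set.ncard_image_of_injective _ (mul_right_injective c)]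
    obtain ⟨j, hj⟩ : ∃ j : ℕ, c ^ (m + 1) = (c ^ m) ^ j := by
      have h3 : orderOf (c ^ m) = p := by
        rw [Nat.Coprime.orderOf_pow, hc]
        rw [hc]
        exact hm.symm
      have h4 : Subgroup.zpowers (c ^ m) = Subgroup.zpowers c := by
        apply Subgroup.eq_of_le_of_card_ge
        · rw [Subgroup.zpowers_le]
          exact Subgroup.npow_mem_zpowers c m
        · rw [Nat.card_zpowers, Nat.card_zpowers, h3, hc]
      have h5 : c ^ (m + 1) ∈ Subgroup.zpowers (c ^ m) := by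
        rw [h4]
        exact Subgroup.npow_mem_zpowers c (m + 1)
      obtain ⟨j, hj⟩ := (isOfFinOrder_of_finite (c ^ m)).mem_powers_iff_mem_zpowers.2 h5
      exact ⟨j, hj.symm⟩
    have h3 : E = (fun y => y ^ j) '' D := by
      ext y
      constructor
      · intro hy
        rw [hE] at hy
        obtain ⟨v, hv, rfl⟩ := hy
        refine ⟨v * c ^ m * v⁻¹, by rw [hD]; exact ⟨v, hv, rfl⟩, ?_⟩
        show (v * c ^ m * v⁻¹) ^ j = _
        rw [conj_pow, hj]
      · rintro ⟨x, hx, rfl⟩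
        rw [hD] at hx
        obtain ⟨v, hv, rfl⟩ := hx
        rw [hE]
        refine ⟨v, hv, ?_⟩
        show (v * c ^ m * v⁻¹) ^ j = _
        rw [conj_pow, hj]
    rw [h3]
    exact Set.ncard_image_le (Set.toFinite _)
  have h3 : (fun y => c * y) '' D = E := Set.eq_of_subset_of_ncard_le h1 h2 (Set.toFinite _)
  -- `D` is stable under the commutators
  have h4 : ∀ v ∈ V, ∀ y ∈ D, c⁻¹ * v * c * v⁻¹ * y ∈ D := by
    intro v hv y hy
    have h5 : v * (c * (v⁻¹ * y * v)) * v⁻¹ ∈ E := by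
      have h6 : c * (v⁻¹ * y * v) ∈ E := by
        rw [← h3]
        refine ⟨v⁻¹ * y * v, ?_, rfl⟩
        rw [hD] at hy ⊢
        obtain ⟨w, hw, rfl⟩ := hy
        exact ⟨v⁻¹ * w, mul_mem (inv_mem hv) hw, by group⟩
      rw [hE] at h6 ⊢
      obtain ⟨w, hw, h7⟩ := h6
      exact ⟨v * w, mul_mem hv hw, by rw [h7]; group⟩
    rw [← h3] at h5
    obtain ⟨y', hy', h6⟩ := h5
    have h7 : c * y' = v * (c * (v⁻¹ * y * v)) * v⁻¹ := h6
    have h8 : c⁻¹ * v * c * v⁻¹ * y = y' := by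
      calc c⁻¹ * v * c * v⁻¹ * y = c⁻¹ * (v * (c * (v⁻¹ * y * v)) * v⁻¹) := by group
        _ = y' := by rw [← h7]; group
    rw [h8]
    exact hy'
  have h5 : ∀ w ∈ Subgroup.closure {y : A | ∃ v ∈ V, y = c⁻¹ * v * c * v⁻¹}, ∀ y ∈ D, w * y ∈ D := by
    intro w hw
    induction hw using Subgroup.closure_induction with
    | mem w hw =>
      obtain ⟨v, hv, rfl⟩ := hw
      exact h4 v hv
    | one => intro y hy; rwa [one_mul]
    | mul a b _ _ ha hb =>
      intro y hy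
      rw [mul_assoc]
      exact ha _ (hb _ hy)
    | inv a _ ha =>
      intro y hy
      have h6 : ∀ (k : ℕ), a ^ k * y ∈ D := by
        intro k
        induction k with
        | zero => rwa [pow_zero, one_mul]
        | succ k ih => rw [pow_succ', mul_assoc]; exact ha _ ih
      obtain ⟨k, hk⟩ := (isOfFinOrder_of_finite a).mem_powers_iff_mem_zpowers.2
        (inv_mem (Subgroup.mem_zpowers a))
      have hk' : a ^ k = a⁻¹ := hk
      rw [← hk']
      exact h6 k
  have h6 : z * c ^ m ∈ D := h5 z hzcl (c ^ m) (by rw [hD]; exact ⟨1, one_mem _, by group⟩)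
  rw [hD] at h6
  obtain ⟨v, -, h7⟩ := h6
  have h8 : (z * c ^ m) ^ p = 1 := by
    rw [h7, conj_pow, ← pow_mul, mul_comm m p, pow_mul, hcp, one_pow, mul_one, mul_inv_cancel]
  rw [(hzc.pow_right m).mul_pow, ← pow_mul, mul_comm m p, pow_mul, hcp, one_pow, mul_one] at h8
  exact hz1 (htriv z hz ⟨1, by rw [pow_one]; exact h8⟩)

/-- the commutators with the powers of `c` -/
theorem mem_closure_pow (V : Subgroup A) [hV : V.Normal] (c : A) (j : ℕ) {v : A} (hv : v ∈ V) :
    (c ^ j)⁻¹ * v * c ^ j * v⁻¹ ∈ Subgroup.closure {y : A | ∃ v ∈ V, y = c⁻¹ * v * c * v⁻¹} := by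
  induction j with
  | zero =>
    rw [pow_zero]
    have : (1 : A)⁻¹ * v * 1 * v⁻¹ = 1 := by group
    rw [this]
    exact one_mem _
  | succ j ih =>
    have h1 : (c ^ (j + 1))⁻¹ * v * c ^ (j + 1) * v⁻¹ =
        (c⁻¹ * ((c ^ j)⁻¹ * v * c ^ j) * c * ((c ^ j)⁻¹ * v * c ^ j)⁻¹) * ((c ^ j)⁻¹ * v * c ^ j * v⁻¹) := by
      rw [pow_succ]; group
    rw [h1]
    refine mul_mem (Subgroup.subset_closure ⟨_, ?_, rfl⟩) ih
    have := hV.conj_mem _ hv (c ^ j)⁻¹
    rwa [inv_inv] at this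

end cop

section simple

variable {S : Type*} [Group S] [Finite S]

/-- Not all the conjugates of an automorphism of a simple group normalise `⟨x⟩`. -/
theorem exists_not_mem_zpowers [IsSimpleGroup S] (hna : ¬ IsMulCommutative S) {x : S} (hx : x ≠ 1) {d : MulAut S}
    (hd : d ≠ 1) : ∃ g : S, (MulAut.conj g * d * (MulAut.conj g)⁻¹) x ∉ Subgroup.zpowers x := by
  by_contra hcon
  push Not at hcon
  have h0 : d x ∈ Subgroup.zpowers x := by simpa using hcon 1
  have hz : Subgroup.zpowers (d x) = Subgroup.zpowers x := by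
    apply Subgroup.eq_of_le_of_card_ge
    · rw [Subgroup.zpowers_le]; exact h0
    · rw [Nat.card_zpowers, Nat.card_zpowers, MulEquiv.orderOf_eq]
  -- `g d(g)⁻¹` normalises `⟨x⟩`
  have h1 : ∀ g : S, g * (d g)⁻¹ ∈ Subgroup.normalizer (Subgroup.zpowers x : Set S) := by
    intro g
    have h2 := hcon g
    have h3 : (MulAut.conj g * d * (MulAut.conj g)⁻¹) x = (g * (d g)⁻¹) * d x * (g * (d g)⁻¹)⁻¹ := by
      rw [MulAut.mul_apply, MulAut.mul_apply, ← map_inv, MulAut.conj_apply, MulAut.conj_apply]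
      simp only [map_mul, map_inv]
      group
    rw [h3] at h2
    apply Subgroup.mem_normalizer_fintype
    intro n hn
    rw [SetLike.mem_coe, ← hz] at hn
    obtain ⟨k, rfl⟩ := Subgroup.mem_zpowers_iff.1 hn
    rw [← conj_zpow, ← h3]
    exact Subgroup.zpow_mem _ (hcon g) k
  -- the normal subgroup generated by them
  obtain ⟨M, hM⟩ : ∃ M : Subgroup S, M = Subgroup.closure {y : S | ∃ g : S, y = g * (d g)⁻¹} := ⟨_, rfl⟩
  have hMn : M.Normal := by
    refine ⟨fun n hn h => ?_⟩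
    rw [hM] at hn ⊢
    induction hn using Subgroup.closure_induction with
    | mem n hn =>
      obtain ⟨g, rfl⟩ := hn
      have h2 : h * (g * (d g)⁻¹) * h⁻¹ = (h * g * (d (h * g))⁻¹) * (h * (d h)⁻¹)⁻¹ := by
        rw [map_mul]; group
      rw [h2]
      exact mul_mem (Subgroup.subset_closure ⟨_, rfl⟩) (inv_mem (Subgroup.subset_closure ⟨_, rfl⟩))
    | one => rw [mul_one, mul_inv_cancel]; exact one_mem _
    | mul a b _ _ ha hb =>
      have h2 : h * (a * b) * h⁻¹ = (h * a * h⁻¹) * (h * b * h⁻¹) := by group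
      rw [h2]
      exact mul_mem ha hb
    | inv a _ ha =>
      have h2 : h * a⁻¹ * h⁻¹ = (h * a * h⁻¹)⁻¹ := by group
      rw [h2]
      exact inv_mem ha
  have hMle : M ≤ Subgroup.normalizer (Subgroup.zpowers x : Set S) := by
    rw [hM, Subgroup.closure_le]
    rintro _ ⟨g, rfl⟩
    exact h1 g
  rcases hMn.eq_bot_or_eq_top with h2 | h2
  · apply hd
    apply MulEquiv.ext
    intro g
    have h3 : g * (d g)⁻¹ ∈ M := by rw [hM]; exact Subgroup.subset_closure ⟨g, rfl⟩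
    rw [h2, Subgroup.mem_bot, mul_inv_eq_one] at h3
    rw [MulAut.one_apply]
    exact h3.symm
  · rw [h2, top_le_iff] at hMle
    have hZn : (Subgroup.zpowers x).Normal := Subgroup.normalizer_eq_top_iff.1 hMle
    rcases hZn.eq_bot_or_eq_top with h3 | h3
    · exact hx (Subgroup.zpowers_eq_bot.1 h3)
    · apply hna
      refine ⟨⟨fun a b => ?_⟩⟩
      have ha : a ∈ Subgroup.zpowers x := by rw [h3]; exact Subgroup.mem_top a
      have hb : b ∈ Subgroup.zpowers x := by rw [h3]; exact Subgroup.mem_top b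
      obtain ⟨i, rfl⟩ := Subgroup.mem_zpowers_iff.1 ha
      obtain ⟨j, rfl⟩ := Subgroup.mem_zpowers_iff.1 hb
      exact (Commute.refl x).zpow_zpow i j

end simple

end Cfsg.Agent.H442.S5
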