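import Cfsg.Agent.H442.S5.Cop
import Cfsg.Agent.H132.S5.CycChar
import Cfsg.Agent.H28.T5Sz32
import Cfsg.Agent.H937.SzConj
import Cfsg.Agent.H102.SzSol
import Cfsg.Agent.H947.Cyc.Basic

/-!
# The strong rows of `Sz(q)`, `²G₂(q)` (helper442)
-/

set_option autoImplicit false
set_option linter.unusedSectionVars false

universe u

namespace Cfsg.Agent.H442.S5

open Cfsg Cfsg.Agent.H533.T5 Cfsg.Agent.H106.MT Cfsg.Agent.H132.S5 Cfsg.Agent.H28.T5RankOne Cfsg.Agent.H957.T5M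

section RowsRee

variable {S : Type u} [Group S] {K : Type} [Field K] [Fintype K] {m : ℕ} (hm : 1 ≤ m)
  (hK : Fintype.card K = 3 ^ (2 * m + 1)) {p : ℕ} (hpp : p.Prime) (hp5 : 5 ≤ p)
  (e : S ≃* ↥(Cfsg.Lie.twistedG2 K (3 ^ m)))

include hm hK hpp hp5 e in
/-- **The strong row of `²G₂(q)`, `p ≥ 5`.** -/
theorem srow_ree [Finite S] (hAA : AAHyp.{u} p) (hRS : RSHyp.{u} p) : SRow p S := by
  have := Fact.mk hpp
  have hs : IsSimpleGroup ↥(Cfsg.Lie.twistedG2 K (3 ^ m)) := (Cfsg.Agent.S1073.result hm hK).1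
  have := e.isSimpleGroup
  have hna : ¬ IsMulCommutative S := fun hc => ree_na hm hK ⟨⟨fun a b => e.symm.injective (by
    rw [map_mul, map_mul]
    exact hc.is_comm.comm _ _)⟩⟩
  obtain ⟨P⟩ : Nonempty (Sylow p S) := inferInstance
  have hP : IsCyclic ↥(P : Subgroup S) := by
    have h1 := cyclic_of_sylow (ree_cyc hm hK hp5) ((P : Subgroup S).map (e : S →* ↥(Cfsg.Lie.twistedG2 K (3 ^ m))))
      (P.2.map _)
    exact isCyclic_of_surjective (e.subgroupMap _).symm (e.subgroupMap _).symm.surjective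
  exact srow_of_ok hAA hRS hpp hna (outerOk_ree hm hK hpp hp5 e) (homOk_ree hm hK hpp hp5 e)
    (fun x y hx hy => spair_of_cyclic hAA hRS hna P hP hx hy)

end RowsRee

section RowsSz

variable {S : Type u} [Group S] {F : Type} [Field F] [Fintype F] {m : ℕ} (hm : 1 ≤ m)
  (hF : Fintype.card F = 2 ^ (2 * m + 1)) {p : ℕ} (hpp : p.Prime) (hp2 : p ≠ 2)
  (e : S ≃* ↥(Cfsg.Lie.Sz F (2 ^ (m + 1))))

include hm hF hpp hp2 e in
/-- **The strong row of `Sz(q)`, `p` odd** (not `Sz(32)`, `p = 5`). -/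
theorem srow_sz [Finite S] (hAA : AAHyp.{u} p) (hRS : RSHyp.{u} p) (h5 : ¬ (p = 5 ∧ m = 2)) : SRow p S := by
  have := Fact.mk hpp
  have hs : IsSimpleGroup ↥(Cfsg.Lie.Sz F (2 ^ (m + 1))) := Cfsg.Agent.S1162.result hm hF
  have := e.isSimpleGroup
  have hna : ¬ IsMulCommutative S := fun hc => sz_na hm hF ⟨⟨fun a b => e.symm.injective (by
    rw [map_mul, map_mul]
    exact hc.is_comm.comm _ _)⟩⟩
  obtain ⟨P⟩ : Nonempty (Sylow p S) := inferInstance
  have hP : IsCyclic ↥(P : Subgroup S) := by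
    have h1 := cyclic_of_sylow (sz_cyc hm hF hp2) ((P : Subgroup S).map (e : S →* ↥(Cfsg.Lie.Sz F (2 ^ (m + 1)))))
      (P.2.map _)
    exact isCyclic_of_surjective (e.subgroupMap _).symm (e.subgroupMap _).symm.surjective
  exact srow_of_ok hAA hRS hpp hna (outerOk_sz hm hF hpp hp2 e h5) (homOk_sz hm hF hpp hp2 e)
    (fun x y hx hy => spair_of_cyclic hAA hRS hna P hP hx hy)

end RowsSz

/-! ### `Sz(32)`, `p = 5` -/

theorem isConj_of_sq {G : Type*} [Group G] (hsq : ∀ z : G, orderOf z = 5 → IsConj z (z ^ 2)) {x y s : G}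
    (hx : orderOf x = 5) (hy : orderOf y = 5) {j : ℤ} (hj : (s * y * s⁻¹) ^ j = x) : IsConj y x := by
  have hord : ∀ z : G, orderOf z = 5 → orderOf (z ^ 2) = 5 := by
    intro z hz
    rw [Nat.Coprime.orderOf_pow, hz]
    rw [hz]; decide
  have h5 : y ^ 5 = 1 := by rw [← hy, pow_orderOf_eq_one]
  have e4 : (y ^ 2) ^ 2 = y ^ 4 := by rw [← pow_mul]
  have h4 : IsConj y (y ^ 4) := by
    have := (hsq y hy).trans (hsq _ (hord y hy))
    rwa [e4] at this
  have h3 : IsConj y (y ^ 3) := by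
    have h := h4.trans (hsq (y ^ 4) (by rw [← e4]; exact hord _ (hord y hy)))
    have e3 : (y ^ 4) ^ 2 = y ^ 3 := by
      calc (y ^ 4) ^ 2 = y ^ 5 * y ^ 3 := by rw [← pow_mul, ← pow_add]
        _ = y ^ 3 := by rw [h5, one_mul]
    rwa [e3] at h
  have h2 : IsConj y (y ^ 2) := hsq y hy
  obtain ⟨k, hk⟩ := H28.T5Sz32.exists_nat_pow (by norm_num : 0 < 5) (a := s * y * s⁻¹) (by
    rw [conj_pow, h5, mul_one, mul_inv_cancel]) j
  rw [hk, conj_pow, ← pow_mod_orderOf, hy] at hj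
  have h6 : k % 5 < 5 := Nat.mod_lt _ (by norm_num)
  have hcase : IsConj y (y ^ (k % 5)) := by
    interval_cases h7 : k % 5
    · exfalso
      rw [pow_zero, mul_one, mul_inv_cancel] at hj
      rw [← hj, orderOf_one] at hx
      omega
    · rw [pow_one]
    · exact h2
    · exact h3
    · exact h4
  have h8 : IsConj (y ^ (k % 5)) x := isConj_iff.2 ⟨s, hj⟩
  exact hcase.trans h8

theorem pow_eq_sq {G : Type*} [Group G] {z : G} {n : ℕ} (hn : n = 5 * 6 + 2) (h : z ^ 5 = 1) : z ^ n = z ^ 2 := by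
  rw [hn, pow_add, pow_mul, h, one_pow, one_mul]

theorem orderOf_dvd_stab {G Ω : Type*} [Group G] [Finite G] [MulAction G Ω] {x : G} {a : Ω} (h : x • a = a) :
    orderOf x ∣ Nat.card (MulAction.stabilizer G a) :=
  Subgroup.orderOf_dvd_natCard _ h

section Sz32

open Cfsg.Agent.LieRecognition.SzMatrix Cfsg.Agent.H967.CopMat Cfsg.Agent.H967.CopSz Cfsg.Agent.H28.T5Sz32

variable {F : Type} [Field F] [Fintype F] (hF : Fintype.card F = 2 ^ (2 * 2 + 1))

include hF in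
/-- one class of elements of order `5` -/
theorem isConj_five {x y : ↥(Cfsg.Lie.Sz F (2 ^ (2 + 1)))} (hx : orderOf x = 5) (hy : orderOf y = 5) :
    ∃ s, s * y * s⁻¹ = x := by
  have h5p : Fact (Nat.Prime 5) := ⟨Nat.prime_five⟩
  obtain ⟨P⟩ : Nonempty (Sylow 5 ↥(Cfsg.Lie.Sz F (2 ^ (2 + 1)))) := inferInstance
  obtain ⟨s, j, hj⟩ := exists_conj_of_cyclic P (sz_cyc (by norm_num) hF (by norm_num) P) hx hy
  have h32 : Nat.card F = 5 * 6 + 2 := by rw [Nat.card_eq_fintype_card, hF]; norm_num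
  exact isConj_iff.1 (isConj_of_sq (fun z hz => by
    have h1 := H937.SzConj.sz_conj (m := 2) (by norm_num) (by rw [Nat.card_eq_fintype_card, hF]) z (by rw [hz]; decide)
    have h2 : z ^ Nat.card F = z ^ 2 := pow_eq_sq h32 (by rw [← hz, pow_orderOf_eq_one])
    rwa [h2] at h1) hx hy hj)

include hF in
/-- elements of order `5` generating a solvable group -/
theorem mem_zpowers_of_solvable {x y : ↥(Cfsg.Sz F 2)} (hx : orderOf x = 5) (hy : orderOf y = 5)
    (hs : Group.IsSolvable ↥(Subgroup.closure ({x, y} : Set ↥(Cfsg.Sz F 2)))) : y ∈ Subgroup.zpowers x := by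
  have h5p : Fact (Nat.Prime 5) := ⟨Nat.prime_five⟩
  have hfin := H270.StrP.finite_Sz' (m := 2) (by norm_num) hF
  have hfinO := H98.SzBasic.finite_ovoid F 2
  have H := H102.SzSol.hyp (m := 2) (by norm_num) hF
  have hN := H.card_normalizer (by norm_num) (e := 2) (fun g hg => H102.SzSol.norm_free (m := 2) (by norm_num) hF g hg)
  have hx1 : x ≠ 1 := by
    rintro rfl
    rw [orderOf_one] at hx
    omega
  rcases (H.solvable_iff hN hx1).1 hs with ⟨a, ha, -⟩ | ⟨T, hT, h1, h2⟩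
  · exfalso
    have h3 := H.card_map_one a a
    have h4 : orderOf x ∣ Nat.card (MulAction.stabilizer ↥(Cfsg.Sz F 2) a) := orderOf_dvd_stab ha
    have h5 : Nat.card (MulAction.stabilizer ↥(Cfsg.Sz F 2) a) = (2 ^ (2 * 2 + 1)) ^ 2 * (2 ^ (2 * 2 + 1) - 1) := h3
    rw [h5, hx] at h4
    norm_num at h4
  · obtain ⟨e, he⟩ := hN T hT
    have h3 := H102.RankOneSol.IsT.mem_of_odd he h1 (by rw [hx]; decide)
    have h4 := H102.RankOneSol.IsT.mem_of_odd he h2 (by rw [hy]; decide)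
    have hcomm := hT.comm h3 h4
    have hE : IsPGroup 5 ↥(Subgroup.closure ({x, y} : Set ↥(Cfsg.Sz F 2))) := by
      have hcl : ∀ a ∈ Subgroup.closure ({x, y} : Set ↥(Cfsg.Sz F 2)), a ∈ T ∧ a ^ 5 = 1 := by
        intro a ha
        induction ha using Subgroup.closure_induction with
        | mem a ha =>
          rcases ha with rfl | ha
          · exact ⟨h3, by rw [← hx, pow_orderOf_eq_one]⟩
          · rw [Set.mem_singleton_iff] at ha
            subst ha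
            exact ⟨h4, by rw [← hy, pow_orderOf_eq_one]⟩
        | one => exact ⟨one_mem _, one_pow _⟩
        | mul a b _ _ ha hb =>
          refine ⟨mul_mem ha.1 hb.1, ?_⟩
          rw [(show Commute a b from hT.comm ha.1 hb.1).mul_pow, ha.2, hb.2, one_mul]
        | inv a _ ha => exact ⟨inv_mem ha.1, by rw [inv_pow, ha.2, inv_one]⟩
      rintro ⟨a, ha⟩
      refine ⟨1, Subtype.ext ?_⟩
      rw [pow_one]
      exact (hcl a ha).2
    have hcyc := cyclic_of_sylow (fun P => H270.StrP.sz_cyclic (m := 2) (by norm_num) hF (by norm_num) P) _ hE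
    exact H947.Cyc.mem_zpowers_of_cyclic hcyc (Subgroup.subset_closure (by simp)) (Subgroup.subset_closure (by simp)) hx hy

include hF in
/-- additive Hilbert 90 for `α` -/
theorem exists_coboundary (h2 : (2 : F) = 0) {α : F} (hα : α ^ 5 = α ^ 2 + 1) {σ : F ≃+* F} (hσ : orderOf σ = 5) :
    ∃ c, σ c + c = α := by
  have hcyc : IsCyclic (F ≃+* F) := LieRecognition.FieldSemilinear.isCyclic_ringAut F
  have hfinR := finite_ringAut F
  obtain ⟨φ, hφ5, hφ⟩ := exists_frob hF hα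
  obtain ⟨k, hk⟩ := Subgroup.mem_zpowers_iff.1 (mem_zpowers_of_cyclic Nat.prime_five hσ hφ5)
  have h5 : φ ^ 5 = 1 := by rw [← hφ5, pow_orderOf_eq_one]
  obtain ⟨n, hn⟩ := exists_nat_pow (by norm_num : 0 < 5) h5 k
  rw [hn, ← pow_mod_orderOf, hφ5] at hk
  have h6 : n % 5 < 5 := Nat.mod_lt _ (by norm_num)
  have e1 : ∀ a, (φ ^ 1) a = a ^ 2 := fun a => by rw [pow_one, hφ]
  have e2 : ∀ a, (φ ^ 2) a = a ^ 4 := fun a => by
    show φ (φ a) = _
    rw [hφ, hφ, ← pow_mul]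
  have e3 : ∀ a, (φ ^ 3) a = a ^ 8 := fun a => by
    show φ (φ (φ a)) = _
    rw [hφ, hφ, hφ, ← pow_mul, ← pow_mul]
  have e4 : ∀ a, (φ ^ 4) a = a ^ 16 := fun a => by
    show φ (φ (φ (φ a))) = _
    rw [hφ, hφ, hφ, hφ, ← pow_mul, ← pow_mul, ← pow_mul]
  have hα8 : α ^ 8 = α ^ 3 + α ^ 2 + 1 := by
    linear_combination (1 + α ^ 3) * hα
  have hα16 : α ^ 16 = α ^ 4 + α ^ 3 + α + 1 := by
    linear_combination (3 + α + α ^ 2 + 2 * α ^ 3 + α ^ 5 + α ^ 6 + α ^ 8 + α ^ 11) * hα +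
      (1 + 2 * α ^ 2 + α ^ 3) * h2
  interval_cases h7 : n % 5
  · exfalso
    rw [pow_zero] at hk
    rw [← hk, orderOf_one] at hσ
    omega
  · refine ⟨α ^ 3, ?_⟩
    rw [← hk, e1]
    linear_combination α * hα + α ^ 3 * h2
  · refine ⟨α ^ 4 + α ^ 2, ?_⟩
    rw [← hk, map_add, map_pow, map_pow, e2]
    linear_combination (4 + α + α ^ 2 + 3 * α ^ 3 + α ^ 5 + α ^ 6 + α ^ 8 + α ^ 11) * hα +
      (2 + 3 * α ^ 2 + 2 * α ^ 3 + α ^ 4) * h2
  · refine ⟨α ^ 4 + α ^ 2 + α, ?_⟩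
    rw [← hk, map_add, map_add, map_pow, map_pow, e3, hα8]
    linear_combination (37 + 24 * α + 19 * α ^ 2 + 17 * α ^ 3 + 9 * α ^ 4 + 6 * α ^ 5 + 4 * α ^ 6 + α ^ 7) * hα +
      (20 + 12 * α + 32 * α ^ 2 + 24 * α ^ 3 + 18 * α ^ 4) * h2
  · refine ⟨α ^ 3 + α, ?_⟩
    rw [← hk, map_add, map_pow, e4, hα16]
    linear_combination (24 + 14 * α + 13 * α ^ 2 + 12 * α ^ 3 + 5 * α ^ 4 + 3 * α ^ 5 + 3 * α ^ 6 + α ^ 7) * hα +
      (13 + 9 * α + 20 * α ^ 2 + 16 * α ^ 3 + 14 * α ^ 4) * h2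

end Sz32

end Cfsg.Agent.H442.S5
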