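import Cfsg.Agent.H442.S5.SzA

/-!
# The strong row of `Sz(32)`, `p = 5` (helper442)
-/

set_option autoImplicit false
set_option linter.unusedSectionVars false

universe u

namespace Cfsg.Agent.H442.S5

open Cfsg Cfsg.Agent.H533.T5 Cfsg.Agent.H106.MT Cfsg.Agent.H132.S5 Cfsg.Agent.H28.T5RankOne Cfsg.Agent.H957.T5M
open Cfsg.Agent.LieRecognition.SzMatrix Cfsg.Agent.H967.CopMat Cfsg.Agent.H967.CopSz Cfsg.Agent.H28.T5Sz32

variable {F : Type} [Field F] [Fintype F] (hF : Fintype.card F = 2 ^ (2 * 2 + 1))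

/-- **Part (b), inner against outer.** -/
theorem bpair_base {σ : F ≃+* F} (hσ : orderOf σ = 5) {α : F} (hα : α ^ 5 = α ^ 2 + 1) :
    BPair 5 (MulAut.conj : ↥(Cfsg.Lie.Sz F (2 ^ (2 + 1))) →* _).range
      (MulAut.conj ((good hF).u 1 (α ^ 2 + α + 1) * ((good hF).w * (good hF).u 0 α * (good hF).w)))
      (fieldAut (stab_sz hF) σ) := by
  have h2 : (2 : F) = 0 := (good hF).two
  have hs : IsSimpleGroup ↥(Cfsg.Lie.Sz F (2 ^ (2 + 1))) := Cfsg.Agent.S1162.result (by norm_num) hF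
  have hinj := conj_injective_of_simple (S := ↥(Cfsg.Lie.Sz F (2 ^ (2 + 1)))) (sz_na (by norm_num) hF)
  obtain ⟨Φ, hΦ⟩ : ∃ Φ, Φ = fieldAut (stab_sz hF) σ := ⟨_, rfl⟩
  rw [← hΦ]
  have hΦu : ∀ a b, Φ ((good hF).u a b) = (good hF).u (σ a) (σ b) := fun a b => by
    rw [hΦ, fieldAut_u]
  have hΦw : Φ (good hF).w = (good hF).w := by rw [hΦ, fieldAut_w]
  have hcg : ∀ y, Φ * MulAut.conj y = MulAut.conj (Φ y) * Φ := fun y => by
    refine MulEquiv.ext fun a => ?_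
    rw [MulAut.mul_apply, MulAut.mul_apply, MulAut.conj_apply, MulAut.conj_apply, map_mul, map_mul, map_inv]
  obtain ⟨c, hc⟩ := exists_coboundary hF h2 hα hσ
  obtain ⟨g, hg⟩ : ∃ g, g = (good hF).w * (good hF).u 0 c := ⟨_, rfl⟩
  -- `Φ g g⁻¹`
  have h3 : (good hF).w * (good hF).u 0 α * (good hF).w = Φ g * g⁻¹ := by
    have h4 : (good hF).u 0 (σ c) = (good hF).u 0 α * (good hF).u 0 c := by
      rw [(good hF).u_mul, map_zero, mul_zero, add_zero, add_zero]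
      congr 1
      linear_combination hc - c * h2
    rw [hg, map_mul, hΦw, hΦu, map_zero, h4, mul_inv_rev, (good hF).w_inv]
    group
  refine ⟨MulAut.conj g, ⟨g, rfl⟩, fun k hk => ?_⟩
  obtain ⟨u, hu⟩ : ∃ u, u = (good hF).u 1 (α ^ 2 + α + 1) := ⟨_, rfl⟩
  have h5 : MulAut.conj ((good hF).u 1 (α ^ 2 + α + 1) * ((good hF).w * (good hF).u 0 α * (good hF).w)) *
      (MulAut.conj g * Φ * (MulAut.conj g)⁻¹) = MulAut.conj u * Φ := by
    rw [h3, ← hu, ← map_inv, mul_assoc (MulAut.conj g), hcg, map_mul, map_mul, map_inv Φ]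
    simp only [map_inv]
    group
  rw [h5] at hk
  -- the fifth power
  have h6 : (MulAut.conj u * Φ) ^ 5 = MulAut.conj (u * Φ u * Φ (Φ u) * Φ (Φ (Φ u)) * Φ (Φ (Φ (Φ u)))) * Φ ^ 5 := by
    have h7 : ∀ y, Φ * MulAut.conj y = MulAut.conj (Φ y) * Φ := hcg
    calc (MulAut.conj u * Φ) ^ 5 = MulAut.conj u * (Φ * MulAut.conj u) * (Φ * MulAut.conj u) * (Φ * MulAut.conj u) *
          (Φ * MulAut.conj u) * Φ := by simp only [pow_succ, pow_zero, one_mul, mul_assoc]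
      _ = MulAut.conj u * MulAut.conj (Φ u) * (Φ * MulAut.conj (Φ u)) * (Φ * MulAut.conj (Φ u)) *
          (Φ * MulAut.conj (Φ u)) * Φ * Φ := by rw [h7]; simp only [mul_assoc]
      _ = MulAut.conj u * MulAut.conj (Φ u) * MulAut.conj (Φ (Φ u)) * (Φ * MulAut.conj (Φ (Φ u))) *
          (Φ * MulAut.conj (Φ (Φ u))) * Φ * Φ * Φ := by rw [h7]; simp only [mul_assoc]
      _ = MulAut.conj u * MulAut.conj (Φ u) * MulAut.conj (Φ (Φ u)) * MulAut.conj (Φ (Φ (Φ u))) *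
          (Φ * MulAut.conj (Φ (Φ (Φ u)))) * Φ * Φ * Φ * Φ := by rw [h7]; simp only [mul_assoc]
      _ = _ := by rw [h7]; simp only [map_mul, pow_succ, pow_zero, one_mul, mul_assoc]
  have hΦ5 : Φ ^ 5 = 1 := by
    rw [hΦ, ← map_pow, ← hσ, pow_orderOf_eq_one, map_one]
  rw [hΦ5, mul_one] at h6
  obtain ⟨β, hβ⟩ : ∃ β, u * Φ u * Φ (Φ u) * Φ (Φ (Φ u)) * Φ (Φ (Φ (Φ u))) = (good hF).u 1 β := by
    have h7 : ∃ β, u * Φ u * Φ (Φ u) * Φ (Φ (Φ u)) * Φ (Φ (Φ (Φ u))) = (good hF).u (1 + 1 + 1 + 1 + 1) β := by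
      rw [hu]
      simp only [hΦu, map_one, (good hF).u_mul]
      exact ⟨_, rfl⟩
    obtain ⟨β, hβ⟩ := h7
    refine ⟨β, ?_⟩
    rw [hβ]
    congr 1
    linear_combination (2 : F) * h2
  rw [hβ] at h6
  have h8 : (good hF).u 1 β ^ 4 = 1 := by
    have h9 : (good hF).u 1 β ^ 2 = (good hF).u 0 1 := by
      rw [pow_two, (good hF).u_mul, map_one]
      congr 1
      · linear_combination h2
      · linear_combination β * h2
    have h10 : (good hF).u 1 β ^ 4 = ((good hF).u 1 β ^ 2) ^ 2 := by rw [← pow_mul]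
    rw [h10, h9, pow_two, (good hF).u_mul, map_zero, mul_zero, add_zero, add_zero,
      ← (good hF).u_zero]
    congr 1
    linear_combination h2
  have h9 : (MulAut.conj ((good hF).u 1 β)) ^ 5 ^ k = 1 := by
    rw [← h6, ← pow_mul, mul_comm, pow_mul, hk, one_pow]
  rw [← map_pow] at h9
  have h10 : (good hF).u 1 β ^ 5 ^ k = 1 := hinj (by rw [h9, map_one])
  have h11 : (good hF).u 1 β = 1 := by
    have h12 : orderOf ((good hF).u 1 β) ∣ Nat.gcd 4 (5 ^ k) :=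
      Nat.dvd_gcd (orderOf_dvd_of_pow_eq_one h8) (orderOf_dvd_of_pow_eq_one h10)
    have h13 : Nat.gcd 4 (5 ^ k) = 1 := Nat.Coprime.pow_right k (by norm_num)
    rw [h13] at h12
    exact orderOf_eq_one_iff.1 (Nat.dvd_one.1 h12)
  rw [← (good hF).u_zero] at h11
  exact one_ne_zero ((good hF).u_inj h11).1

include hF in
/-- **Part (b), inner against outer.** -/
theorem bpair_io {x : ↥(Cfsg.Lie.Sz F (2 ^ (2 + 1)))} (hx : orderOf x = 5)
    {d : MulAut ↥(Cfsg.Lie.Sz F (2 ^ (2 + 1)))} (hd : orderOf d = 5) (hdo : ¬ ∃ g, d = MulAut.conj g) :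
    BPair 5 (MulAut.conj : ↥(Cfsg.Lie.Sz F (2 ^ (2 + 1))) →* _).range (MulAut.conj x) d := by
  have h5p : Fact (Nat.Prime 5) := ⟨Nat.prime_five⟩
  have hcyc : IsCyclic (F ≃+* F) := LieRecognition.FieldSemilinear.isCyclic_ringAut F
  have hfinR := finite_ringAut F
  obtain ⟨α, hα⟩ := exists_root (F := F) hF (good hF).two
  obtain ⟨σ, hσ, g, rfl⟩ := (sz_data (m := 2) (by norm_num) hF (by norm_num)).form hd hdo
  obtain ⟨x₀, hx₀⟩ : ∃ x₀, x₀ = (good hF).u 1 (α ^ 2 + α + 1) * ((good hF).w * (good hF).u 0 α * (good hF).w) :=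
    ⟨_, rfl⟩
  obtain ⟨h1, h2⟩ := x0_pow hF hα
  have h3 := bpair_base hF hσ hα
  rw [← hx₀] at h1 h2 h3
  have hx₀5 : orderOf x₀ = 5 := orderOf_eq_prime h1 h2
  obtain ⟨s, hs⟩ := isConj_five hF hx₀5 hx
  refine BPair.conj_left (s := MulAut.conj s) ⟨s, rfl⟩ (BPair.conj_right (s := MulAut.conj g⁻¹) ⟨g⁻¹, rfl⟩ ?_)
  have e1 : MulAut.conj s * MulAut.conj x * (MulAut.conj s)⁻¹ = MulAut.conj x₀ := by
    rw [← map_inv, ← map_mul, ← map_mul, hs]
  have e2 : MulAut.conj g⁻¹ * (MulAut.conj g * fieldAut (stab_sz hF) σ * (MulAut.conj g)⁻¹) *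
      (MulAut.conj g⁻¹)⁻¹ = fieldAut (stab_sz hF) σ := by
    rw [map_inv]
    group
  rw [e1, e2]
  exact h3

include hF in
/-- **Part (a), inner against outer.** -/
theorem apair_io {x : ↥(Cfsg.Lie.Sz F (2 ^ (2 + 1)))} (hx : orderOf x = 5)
    {d : MulAut ↥(Cfsg.Lie.Sz F (2 ^ (2 + 1)))} (hd : orderOf d = 5) :
    APair (MulAut.conj : ↥(Cfsg.Lie.Sz F (2 ^ (2 + 1))) →* _).range (MulAut.conj x) d := by
  have hs : IsSimpleGroup ↥(Cfsg.Lie.Sz F (2 ^ (2 + 1))) := Cfsg.Agent.S1162.result (by norm_num) hF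
  have hna := sz_na (m := 2) (by norm_num) hF
  have hinj := conj_injective_of_simple (S := ↥(Cfsg.Lie.Sz F (2 ^ (2 + 1)))) hna
  obtain ⟨g, hg⟩ := exists_not_mem_zpowers hna (x := x) (by rintro rfl; rw [orderOf_one] at hx; omega)
    (d := d) (by rintro rfl; rw [orderOf_one] at hd; omega)
  refine ⟨MulAut.conj g, ⟨g, rfl⟩, fun hsol => hg ?_⟩
  obtain ⟨D, hD⟩ : ∃ D, D = MulAut.conj g * d * (MulAut.conj g)⁻¹ := ⟨_, rfl⟩
  rw [← hD] at hsol ⊢
  have h1 : MulAut.conj (D x) = D * MulAut.conj x * D⁻¹ := by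
    refine MulEquiv.ext fun a => ?_
    rw [MulAut.mul_apply, MulAut.mul_apply, MulAut.conj_apply, MulAut.conj_apply, map_mul, map_mul, map_inv,
      MulAut.apply_inv_self]
  have h2 : Group.IsSolvable ↥(Subgroup.closure ({MulAut.conj x, MulAut.conj (D x)} : Set (MulAut
      ↥(Cfsg.Lie.Sz F (2 ^ (2 + 1)))))) := by
    refine isSolvable_of_le ?_ hsol
    rw [Subgroup.closure_le]
    have hxm : MulAut.conj x ∈ Subgroup.closure ({MulAut.conj x, D} : Set (MulAut ↥(Cfsg.Lie.Sz F (2 ^ (2 + 1))))) :=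
      Subgroup.subset_closure (by simp)
    have hDm : D ∈ Subgroup.closure ({MulAut.conj x, D} : Set (MulAut ↥(Cfsg.Lie.Sz F (2 ^ (2 + 1))))) :=
      Subgroup.subset_closure (by simp)
    rintro a (rfl | ha)
    · exact hxm
    · rw [Set.mem_singleton_iff] at ha
      rw [ha, SetLike.mem_coe, h1]
      exact mul_mem (mul_mem hDm hxm) (inv_mem hDm)
  obtain ⟨e⟩ := Cfsg.Agent.OddCyclic.ClaimC.SzIso.iso (m := 2) (by norm_num) hF
  have h3 : Group.IsSolvable ↥(Subgroup.closure ({x, D x} : Set ↥(Cfsg.Lie.Sz F (2 ^ (2 + 1))))) := by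
    have h4 := closure_pair_map (MulAut.conj : ↥(Cfsg.Lie.Sz F (2 ^ (2 + 1))) →* _) x (D x)
    rw [← h4] at h2
    exact Group.isSolvable_of_isSolvable_injective
      (f := ((Subgroup.closure ({x, D x} : Set _)).equivMapOfInjective _ hinj).toMonoidHom) (MulEquiv.injective _)
  have h4 : Group.IsSolvable ↥(Subgroup.closure ({e.symm x, e.symm (D x)} : Set ↥(Cfsg.Sz F 2))) := by
    have h5 := closure_pair_map (e.symm.toMonoidHom) x (D x)
    have h6 : Group.IsSolvable ↥((Subgroup.closure ({x, D x} : Set ↥(Cfsg.Lie.Sz F (2 ^ (2 + 1))))).map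
        e.symm.toMonoidHom) :=
      Group.isSolvable_of_surjective (f := (e.symm.toMonoidHom).subgroupMap _)
        ((e.symm.toMonoidHom).subgroupMap_surjective _)
    rw [h5] at h6
    exact h6
  have h5 := mem_zpowers_of_solvable hF (by rw [MulEquiv.orderOf_eq, hx])
    (by rw [MulEquiv.orderOf_eq, MulEquiv.orderOf_eq, hx]) h4
  obtain ⟨k, hk⟩ := Subgroup.mem_zpowers_iff.1 h5
  refine Subgroup.mem_zpowers_iff.2 ⟨k, e.symm.injective ?_⟩
  rw [map_zpow]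
  exact hk

end Cfsg.Agent.H442.S5
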